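import Mathlib
import Cfsg.Agent.TcData.LM23.I351.Rep
import Cfsg.Agent.TcChain36.LM23.Upper

set_option autoImplicit false
set_option maxRecDepth 100000
set_option linter.all false

namespace Cfsg.Agent.TcChain36.LM23

open Cfsg.Spor Cfsg.Agent.Lib.TcFacts Cfsg.Agent.Lib.TcBits Cfsg.Agent.Lib.TcPres Cfsg.Agent.Lib.PresChain36
open Cfsg.Agent.TcChain36.LPres23 Cfsg.Agent.TcData.LM23 Cfsg.Agent.TcData.LM23.I351
set_option Elab.async false

/-- A word of the free group. -/
noncomputable def W (l : List (Cfsg.Agent.TcChain36.LPres23.Gen × Bool)) : FreeGroup Cfsg.Agent.TcChain36.LPres23.Gen := FreeGroup.mk l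

instance finG : Finite (PresentedGroup RR) := upper.2

/-- The words of level 0. -/
noncomputable def rs0 : List (FreeGroup Cfsg.Agent.TcChain36.LPres23.Gen) := [
  W [(.d, true)],
  W [(.e, true)],
  W [(.f, true)],
  W [(.g, true)],
  W [(.h, true)],
  W [(.i, true)],
  W [(.w, true)],
  W [(.j, true)]]

/-- The mask of level 0. -/
def M0 : ℕ := nat_lit 0x7fffffffffffffffffffffffffffffffffffffffffffffffffffffffffffffffffffffffffffffffffffffff

theorem fix0 : ∀ r ∈ rs0, ∀ b ∈ ([] : List ℕ), wordApply (sgnProg pr) r.toWord (2 ^ b) = 2 ^ b := by simp

theorem M0_eq : grow pr (rs0.map FreeGroup.toWord) 6 (2 ^ 0) = M0 := by decide +kernel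

theorem M0_lt : M0 < 2 ^ 2 ^ 9 := by decide +kernel

theorem M0_cnt : sumRange M0.testBit 9 0 = 351 := by decide +kernel

theorem L0 : 351 * Nat.card (ptStab Phi ([0] : List ℕ)) ≤ Nat.card (ptStab Phi ([] : List ℕ)) :=
  card_step (M0_eq ▸ sound_ptStab hR hv rs0 fix0 6 0) M0_lt M0_cnt

/-- The words of level 1. -/
noncomputable def rs1 : List (FreeGroup Cfsg.Agent.TcChain36.LPres23.Gen) := [
  W [(.d, true)],
  W [(.e, true)],
  W [(.f, true)],
  W [(.h, true)],
  W [(.i, true)],
  W [(.g, true), (.f, true), (.e, true), (.w, true), (.f, true), (.g, true), (.j, true), (.g, true), (.f, true), (.w, true), (.e, true), (.f, true), (.g, true)]]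

/-- The mask of level 1. -/
def M1 : ℕ := nat_lit 0x204001826c0e376065cdbc007cbcd1e00097e4720d0038f77c8304101ceec844020ced08010cea0089c04600

theorem fix1 : ∀ r ∈ rs1, ∀ b ∈ ([0] : List ℕ), wordApply (sgnProg pr) r.toWord (2 ^ b) = 2 ^ b := by decide +kernel

theorem M1_eq : grow pr (rs1.map FreeGroup.toWord) 6 (2 ^ 9) = M1 := by decide +kernel

theorem M1_lt : M1 < 2 ^ 2 ^ 9 := by decide +kernel

theorem M1_cnt : sumRange M1.testBit 9 0 = 126 := by decide +kernel

theorem L1 : 126 * Nat.card (ptStab Phi ([9, 0] : List ℕ)) ≤ Nat.card (ptStab Phi ([0] : List ℕ)) :=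
  card_step (M1_eq ▸ sound_ptStab hR hv rs1 fix1 6 9) M1_lt M1_cnt

/-- The words of level 2. -/
noncomputable def rs2 : List (FreeGroup Cfsg.Agent.TcChain36.LPres23.Gen) := [
  W [(.d, true)],
  W [(.f, true)],
  W [(.h, true)],
  W [(.i, true)],
  W [(.g, true), (.f, true), (.e, true), (.w, true), (.f, true), (.g, true), (.j, true), (.g, true), (.f, true), (.w, true), (.e, true), (.f, true), (.g, true)],
  W [(.e, true), (.d, true), (.f, true), (.e, true), (.h, true), (.d, true), (.g, true), (.f, true), (.e, true), (.w, true), (.f, true), (.g, true), (.j, true), (.g, true), (.f, true), (.w, true), (.e, true), (.f, true), (.g, true), (.d, true), (.h, true), (.e, true), (.f, true), (.d, true), (.e, true)]]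

/-- The mask of level 2. -/
def M2 : ℕ := nat_lit 0x204001824004000000000c006030010000044440000008611480000014424840020c4108010c020088004000

theorem fix2 : ∀ r ∈ rs2, ∀ b ∈ ([9, 0] : List ℕ), wordApply (sgnProg pr) r.toWord (2 ^ b) = 2 ^ b := by decide +kernel

theorem M2_eq : grow pr (rs2.map FreeGroup.toWord) 3 (2 ^ 267) = M2 := by decide +kernel

theorem M2_lt : M2 < 2 ^ 2 ^ 9 := by decide +kernel

theorem M2_cnt : sumRange M2.testBit 9 0 = 45 := by decide +kernel

theorem L2 : 45 * Nat.card (ptStab Phi ([267, 9, 0] : List ℕ)) ≤ Nat.card (ptStab Phi ([9, 0] : List ℕ)) :=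
  card_step (M2_eq ▸ sound_ptStab hR hv rs2 fix2 3 267) M2_lt M2_cnt

/-- The words of level 3. -/
noncomputable def rs3 : List (FreeGroup Cfsg.Agent.TcChain36.LPres23.Gen) := [
  W [(.f, true)],
  W [(.h, true)],
  W [(.d, true), (.h, true), (.i, true), (.g, true), (.f, true), (.e, true), (.w, true), (.f, true), (.g, true), (.j, true), (.g, true), (.f, true), (.w, true), (.e, true), (.f, true), (.g, true), (.e, true), (.d, true), (.f, true), (.e, true), (.h, true), (.d, true), (.g, true), (.f, true), (.e, true), (.w, true), (.f, true), (.g, true), (.j, true), (.g, true), (.f, true), (.w, true), (.e, true), (.f, true), (.g, true), (.d, true), (.h, true), (.e, true), (.f, true), (.d, true), (.e, true), (.d, true), (.h, true), (.i, true), (.g, true), (.f, true), (.e, true), (.w, true), (.f, true), (.g, true), (.j, true), (.g, true), (.f, true), (.w, true), (.e, true), (.f, true), (.g, true), (.d, true)]]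

/-- The mask of level 3. -/
def M3 : ℕ := nat_lit 0x4002000000000040000000000400000000000404000000041000100020080004000

theorem fix3 : ∀ r ∈ rs3, ∀ b ∈ ([267, 9, 0] : List ℕ), wordApply (sgnProg pr) r.toWord (2 ^ b) = 2 ^ b := by decide +kernel

theorem M3_eq : grow pr (rs3.map FreeGroup.toWord) 5 (2 ^ 14) = M3 := by decide +kernel

theorem M3_lt : M3 < 2 ^ 2 ^ 9 := by decide +kernel

theorem M3_cnt : sumRange M3.testBit 9 0 = 12 := by decide +kernel

theorem L3 : 12 * Nat.card (ptStab Phi ([14, 267, 9, 0] : List ℕ)) ≤ Nat.card (ptStab Phi ([267, 9, 0] : List ℕ)) :=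
  card_step (M3_eq ▸ sound_ptStab hR hv rs3 fix3 5 14) M3_lt M3_cnt

/-- The words of level 4. -/
noncomputable def rs4 : List (FreeGroup Cfsg.Agent.TcChain36.LPres23.Gen) := [
  W [(.f, true)],
  W [(.h, true)],
  W [(.d, true), (.g, true), (.f, true), (.e, true), (.w, true), (.f, true), (.g, true), (.j, true), (.g, true), (.f, true), (.w, true), (.e, true), (.f, true), (.g, true), (.i, true), (.h, true), (.d, true), (.e, true), (.d, true), (.f, true), (.e, true), (.h, true), (.d, true), (.g, true), (.f, true), (.e, true), (.w, true), (.f, true), (.g, true), (.j, true), (.g, true), (.f, true), (.w, true), (.e, true), (.f, true), (.g, true), (.d, true), (.h, true), (.e, true), (.f, true), (.d, true), (.e, true), (.g, true), (.f, true), (.e, true), (.w, true), (.f, true), (.g, true), (.j, true), (.g, true), (.f, true), (.w, true), (.e, true), (.f, true), (.g, true), (.i, true), (.h, true), (.d, true), (.h, true), (.d, true), (.h, true), (.i, true), (.g, true), (.f, true), (.e, true), (.w, true), (.f, true), (.g, true), (.j, true), (.g, true), (.f, true), (.w, true), (.e, true), (.f, true), (.g, true), (.e, true), (.d, true),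 (.f, true), (.e, true), (.h, true), (.d, true), (.g, true), (.f, true), (.e, true), (.w, true), (.f, true), (.g, true), (.j, true), (.g, true), (.f, true), (.w, true), (.e, true), (.f, true), (.g, true), (.d, true), (.h, true), (.e, true), (.f, true), (.d, true), (.e, true), (.d, true), (.h, true), (.i, true), (.g, true), (.f, true), (.e, true), (.w, true), (.f, true), (.g, true), (.j, true), (.g, true), (.f, true), (.w, true), (.e, true), (.f, true), (.g, true), (.d, true), (.h, true), (.d, true), (.h, true), (.i, true), (.g, true), (.f, true), (.e, true), (.w, true), (.f, true), (.g, true), (.j, true), (.g, true), (.f, true), (.w, true), (.e, true), (.f, true), (.g, true), (.e, true), (.d, true), (.f, true), (.e, true), (.h, true), (.d, true), (.g, true), (.f, true), (.e, true), (.w, true), (.f, true), (.g, true), (.j, true), (.g, true), (.f, true), (.w, true), (.e, true), (.f, true), (.g, true), (.d, true), (.h, true), (.e, true), (.f, true), (.d, true), (.e, true), (.d, true), (.h, true), (.i, true), (.g, true), (.f, true), (.e, true), (.w, true), (.f, true), (.g, true), (.j, true), (.g, true), (.f, true), (.w, true),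 (.e, true), (.f, true), (.g, true), (.d, true)],
  W [(.d, true), (.g, true), (.f, true), (.e, true), (.w, true), (.f, true), (.g, true), (.j, true), (.g, true), (.f, true), (.w, true), (.e, true), (.f, true), (.g, true), (.i, true), (.h, true), (.d, true), (.e, true), (.d, true), (.f, true), (.e, true), (.h, true), (.d, true), (.g, true), (.f, true), (.e, true), (.w, true), (.f, true), (.g, true), (.j, true), (.g, true), (.f, true), (.w, true), (.e, true), (.f, true), (.g, true), (.d, true), (.h, true), (.e, true), (.f, true), (.d, true), (.e, true), (.g, true), (.f, true), (.e, true), (.w, true), (.f, true), (.g, true), (.j, true), (.g, true), (.f, true), (.w, true), (.e, true), (.f, true), (.g, true), (.i, true), (.h, true), (.g, true), (.f, true), (.e, true), (.w, true), (.f, true), (.g, true), (.j, true), (.g, true), (.f, true), (.w, true), (.e, true), (.f, true), (.g, true), (.i, true), (.h, true), (.d, true), (.e, true), (.d, true), (.f, true), (.e, true), (.h, true), (.d, true), (.g, true), (.f, true), (.e, true), (.w, true), (.f, true), (.g, true), (.j, true), (.g, true), (.f, true), (.w, true), (.e, true), (.f, true),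 (.g, true), (.d, true), (.h, true), (.e, true), (.f, true), (.d, true), (.e, true), (.g, true), (.f, true), (.e, true), (.w, true), (.f, true), (.g, true), (.j, true), (.g, true), (.f, true), (.w, true), (.e, true), (.f, true), (.g, true), (.i, true), (.h, true), (.g, true), (.f, true), (.e, true), (.w, true), (.f, true), (.g, true), (.j, true), (.g, true), (.f, true), (.w, true), (.e, true), (.f, true), (.g, true), (.i, true), (.h, true), (.d, true), (.e, true), (.d, true), (.f, true), (.e, true), (.h, true), (.d, true), (.g, true), (.f, true), (.e, true), (.w, true), (.f, true), (.g, true), (.j, true), (.g, true), (.f, true), (.w, true), (.e, true), (.f, true), (.g, true), (.d, true), (.h, true), (.e, true), (.f, true), (.d, true), (.e, true), (.g, true), (.f, true), (.e, true), (.w, true), (.f, true), (.g, true), (.j, true), (.g, true), (.f, true), (.w, true), (.e, true), (.f, true), (.g, true), (.i, true), (.h, true), (.g, true), (.f, true), (.e, true), (.w, true), (.f, true), (.g, true), (.j, true), (.g, true), (.f, true), (.w, true), (.e, true), (.f, true), (.g, true), (.i, true), (.h, true), (.d, true), (.e, true),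 (.d, true), (.f, true), (.e, true), (.h, true), (.d, true), (.g, true), (.f, true), (.e, true), (.w, true), (.f, true), (.g, true), (.j, true), (.g, true), (.f, true), (.w, true), (.e, true), (.f, true), (.g, true), (.d, true), (.h, true), (.e, true), (.f, true), (.d, true), (.e, true), (.g, true), (.f, true), (.e, true), (.w, true), (.f, true), (.g, true), (.j, true), (.g, true), (.f, true), (.w, true), (.e, true), (.f, true), (.g, true), (.i, true), (.h, true), (.d, true), (.h, true), (.d, true), (.h, true), (.i, true), (.g, true), (.f, true), (.e, true), (.w, true), (.f, true), (.g, true), (.j, true), (.g, true), (.f, true), (.w, true), (.e, true), (.f, true), (.g, true), (.e, true), (.d, true), (.f, true), (.e, true), (.h, true), (.d, true), (.g, true), (.f, true), (.e, true), (.w, true), (.f, true), (.g, true), (.j, true), (.g, true), (.f, true), (.w, true), (.e, true), (.f, true), (.g, true), (.d, true), (.h, true), (.e, true), (.f, true), (.d, true), (.e, true), (.d, true), (.h, true), (.i, true), (.g, true), (.f, true), (.e, true), (.w, true), (.f, true), (.g, true), (.j, true), (.g, true), (.f, true), (.w, true),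 (.e, true), (.f, true), (.g, true), (.h, true), (.i, true), (.g, true), (.f, true), (.e, true), (.w, true), (.f, true), (.g, true), (.j, true), (.g, true), (.f, true), (.w, true), (.e, true), (.f, true), (.g, true), (.e, true), (.d, true), (.f, true), (.e, true), (.h, true), (.d, true), (.g, true), (.f, true), (.e, true), (.w, true), (.f, true), (.g, true), (.j, true), (.g, true), (.f, true), (.w, true), (.e, true), (.f, true), (.g, true), (.d, true), (.h, true), (.e, true), (.f, true), (.d, true), (.e, true), (.d, true), (.h, true), (.i, true), (.g, true), (.f, true), (.e, true), (.w, true), (.f, true), (.g, true), (.j, true), (.g, true), (.f, true), (.w, true), (.e, true), (.f, true), (.g, true), (.h, true), (.i, true), (.g, true), (.f, true), (.e, true), (.w, true), (.f, true), (.g, true), (.j, true), (.g, true), (.f, true), (.w, true), (.e, true), (.f, true), (.g, true), (.e, true), (.d, true), (.f, true), (.e, true), (.h, true), (.d, true), (.g, true), (.f, true), (.e, true), (.w, true), (.f, true), (.g, true), (.j, true), (.g, true), (.f, true), (.w, true), (.e, true), (.f, true), (.g, true), (.d, true), (.h, true),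 (.e, true), (.f, true), (.d, true), (.e, true), (.d, true), (.h, true), (.i, true), (.g, true), (.f, true), (.e, true), (.w, true), (.f, true), (.g, true), (.j, true), (.g, true), (.f, true), (.w, true), (.e, true), (.f, true), (.g, true), (.h, true), (.i, true), (.g, true), (.f, true), (.e, true), (.w, true), (.f, true), (.g, true), (.j, true), (.g, true), (.f, true), (.w, true), (.e, true), (.f, true), (.g, true), (.e, true), (.d, true), (.f, true), (.e, true), (.h, true), (.d, true), (.g, true), (.f, true), (.e, true), (.w, true), (.f, true), (.g, true), (.j, true), (.g, true), (.f, true), (.w, true), (.e, true), (.f, true), (.g, true), (.d, true), (.h, true), (.e, true), (.f, true), (.d, true), (.e, true), (.d, true), (.h, true), (.i, true), (.g, true), (.f, true), (.e, true), (.w, true), (.f, true), (.g, true), (.j, true), (.g, true), (.f, true), (.w, true), (.e, true), (.f, true), (.g, true), (.d, true)]]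

/-- The mask of level 4. -/
def M4 : ℕ := nat_lit 0x4000000000000000000000000400000000000000000000000000000020000000000

theorem fix4 : ∀ r ∈ rs4, ∀ b ∈ ([14, 267, 9, 0] : List ℕ), wordApply (sgnProg pr) r.toWord (2 ^ b) = 2 ^ b := by decide +kernel

theorem M4_eq : grow pr (rs4.map FreeGroup.toWord) 2 (2 ^ 41) = M4 := by decide +kernel

theorem M4_lt : M4 < 2 ^ 2 ^ 9 := by decide +kernel

theorem M4_cnt : sumRange M4.testBit 9 0 = 3 := by decide +kernel

theorem L4 : 3 * Nat.card (ptStab Phi ([41, 14, 267, 9, 0] : List ℕ)) ≤ Nat.card (ptStab Phi ([14, 267, 9, 0] : List ℕ)) :=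
  card_step (M4_eq ▸ sound_ptStab hR hv rs4 fix4 2 41) M4_lt M4_cnt

/-- The words of level 5. -/
noncomputable def rs5 : List (FreeGroup Cfsg.Agent.TcChain36.LPres23.Gen) := [
  W [(.f, true)],
  W [(.h, true)],
  W [(.d, true), (.g, true), (.f, true), (.e, true), (.w, true), (.f, true), (.g, true), (.j, true), (.g, true), (.f, true), (.w, true), (.e, true), (.f, true), (.g, true), (.i, true), (.h, true), (.d, true), (.e, true), (.d, true), (.f, true), (.e, true), (.h, true), (.d, true), (.g, true), (.f, true), (.e, true), (.w, true), (.f, true), (.g, true), (.j, true), (.g, true), (.f, true), (.w, true), (.e, true), (.f, true), (.g, true), (.d, true), (.h, true), (.e, true), (.f, true), (.d, true), (.e, true), (.g, true), (.f, true), (.e, true), (.w, true), (.f, true), (.g, true), (.j, true), (.g, true), (.f, true), (.w, true), (.e, true), (.f, true), (.g, true), (.i, true), (.h, true), (.g, true), (.f, true), (.e, true), (.w, true), (.f, true), (.g, true), (.j, true), (.g, true), (.f, true), (.w, true), (.e, true), (.f, true), (.g, true), (.i, true), (.h, true), (.d, true), (.e, true), (.d, true), (.f, true), (.e, true),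 (.h, true), (.d, true), (.g, true), (.f, true), (.e, true), (.w, true), (.f, true), (.g, true), (.j, true), (.g, true), (.f, true), (.w, true), (.e, true), (.f, true), (.g, true), (.d, true), (.h, true), (.e, true), (.f, true), (.d, true), (.e, true), (.g, true), (.f, true), (.e, true), (.w, true), (.f, true), (.g, true), (.j, true), (.g, true), (.f, true), (.w, true), (.e, true), (.f, true), (.g, true), (.i, true), (.h, true), (.g, true), (.f, true), (.e, true), (.w, true), (.f, true), (.g, true), (.j, true), (.g, true), (.f, true), (.w, true), (.e, true), (.f, true), (.g, true), (.i, true), (.h, true), (.d, true), (.e, true), (.d, true), (.f, true), (.e, true), (.h, true), (.d, true), (.g, true), (.f, true), (.e, true), (.w, true), (.f, true), (.g, true), (.j, true), (.g, true), (.f, true), (.w, true), (.e, true), (.f, true), (.g, true), (.d, true), (.h, true), (.e, true), (.f, true), (.d, true), (.e, true), (.g, true), (.f, true), (.e, true), (.w, true), (.f, true), (.g, true), (.j, true), (.g, true), (.f, true), (.w, true), (.e, true), (.f, true), (.g, true), (.i, true), (.h, true), (.g, true), (.f, true), (.e, true),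 (.w, true), (.f, true), (.g, true), (.j, true), (.g, true), (.f, true), (.w, true), (.e, true), (.f, true), (.g, true), (.i, true), (.h, true), (.d, true), (.e, true), (.d, true), (.f, true), (.e, true), (.h, true), (.d, true), (.g, true), (.f, true), (.e, true), (.w, true), (.f, true), (.g, true), (.j, true), (.g, true), (.f, true), (.w, true), (.e, true), (.f, true), (.g, true), (.d, true), (.h, true), (.e, true), (.f, true), (.d, true), (.e, true), (.g, true), (.f, true), (.e, true), (.w, true), (.f, true), (.g, true), (.j, true), (.g, true), (.f, true), (.w, true), (.e, true), (.f, true), (.g, true), (.i, true), (.h, true), (.d, true), (.h, true), (.d, true), (.h, true), (.i, true), (.g, true), (.f, true), (.e, true), (.w, true), (.f, true), (.g, true), (.j, true), (.g, true), (.f, true), (.w, true), (.e, true), (.f, true), (.g, true), (.e, true), (.d, true), (.f, true), (.e, true), (.h, true), (.d, true), (.g, true), (.f, true), (.e, true), (.w, true), (.f, true), (.g, true), (.j, true), (.g, true), (.f, true), (.w, true), (.e, true), (.f, true), (.g, true), (.d, true), (.h, true), (.e, true), (.f, true), (.d, true),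 (.e, true), (.d, true), (.h, true), (.i, true), (.g, true), (.f, true), (.e, true), (.w, true), (.f, true), (.g, true), (.j, true), (.g, true), (.f, true), (.w, true), (.e, true), (.f, true), (.g, true), (.h, true), (.i, true), (.g, true), (.f, true), (.e, true), (.w, true), (.f, true), (.g, true), (.j, true), (.g, true), (.f, true), (.w, true), (.e, true), (.f, true), (.g, true), (.e, true), (.d, true), (.f, true), (.e, true), (.h, true), (.d, true), (.g, true), (.f, true), (.e, true), (.w, true), (.f, true), (.g, true), (.j, true), (.g, true), (.f, true), (.w, true), (.e, true), (.f, true), (.g, true), (.d, true), (.h, true), (.e, true), (.f, true), (.d, true), (.e, true), (.d, true), (.h, true), (.i, true), (.g, true), (.f, true), (.e, true), (.w, true), (.f, true), (.g, true), (.j, true), (.g, true), (.f, true), (.w, true), (.e, true), (.f, true), (.g, true), (.h, true), (.i, true), (.g, true), (.f, true), (.e, true), (.w, true), (.f, true), (.g, true), (.j, true), (.g, true), (.f, true), (.w, true), (.e, true), (.f, true), (.g, true), (.e, true), (.d, true), (.f, true), (.e, true), (.h, true), (.d, true), (.g, true),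 (.f, true), (.e, true), (.w, true), (.f, true), (.g, true), (.j, true), (.g, true), (.f, true), (.w, true), (.e, true), (.f, true), (.g, true), (.d, true), (.h, true), (.e, true), (.f, true), (.d, true), (.e, true), (.d, true), (.h, true), (.i, true), (.g, true), (.f, true), (.e, true), (.w, true), (.f, true), (.g, true), (.j, true), (.g, true), (.f, true), (.w, true), (.e, true), (.f, true), (.g, true), (.h, true), (.i, true), (.g, true), (.f, true), (.e, true), (.w, true), (.f, true), (.g, true), (.j, true), (.g, true), (.f, true), (.w, true), (.e, true), (.f, true), (.g, true), (.e, true), (.d, true), (.f, true), (.e, true), (.h, true), (.d, true), (.g, true), (.f, true), (.e, true), (.w, true), (.f, true), (.g, true), (.j, true), (.g, true), (.f, true), (.w, true), (.e, true), (.f, true), (.g, true), (.d, true), (.h, true), (.e, true), (.f, true), (.d, true), (.e, true), (.d, true), (.h, true), (.i, true), (.g, true), (.f, true), (.e, true), (.w, true), (.f, true), (.g, true), (.j, true), (.g, true), (.f, true), (.w, true), (.e, true), (.f, true), (.g, true), (.d, true)],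
  W [(.d, true), (.g, true), (.f, true), (.e, true), (.w, true), (.f, true), (.g, true), (.j, true), (.g, true), (.f, true), (.w, true), (.e, true), (.f, true), (.g, true), (.i, true), (.h, true), (.d, true), (.e, true), (.d, true), (.f, true), (.e, true), (.h, true), (.d, true), (.g, true), (.f, true), (.e, true), (.w, true), (.f, true), (.g, true), (.j, true), (.g, true), (.f, true), (.w, true), (.e, true), (.f, true), (.g, true), (.d, true), (.h, true), (.e, true), (.f, true), (.d, true), (.e, true), (.g, true), (.f, true), (.e, true), (.w, true), (.f, true), (.g, true), (.j, true), (.g, true), (.f, true), (.w, true), (.e, true), (.f, true), (.g, true), (.i, true), (.h, true), (.d, true), (.h, true), (.d, true), (.h, true), (.i, true), (.g, true), (.f, true), (.e, true), (.w, true), (.f, true), (.g, true), (.j, true), (.g, true), (.f, true), (.w, true), (.e, true), (.f, true), (.g, true), (.e, true), (.d, true), (.f, true), (.e, true), (.h, true), (.d, true), (.g, true), (.f, true), (.e, true), (.w, true), (.f, true), (.g, true), (.j, true), (.g, true), (.f, true), (.w, true), (.e, true), (.f, true), (.g, true), (.d, true),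 (.h, true), (.e, true), (.f, true), (.d, true), (.e, true), (.d, true), (.h, true), (.i, true), (.g, true), (.f, true), (.e, true), (.w, true), (.f, true), (.g, true), (.j, true), (.g, true), (.f, true), (.w, true), (.e, true), (.f, true), (.g, true), (.h, true), (.i, true), (.g, true), (.f, true), (.e, true), (.w, true), (.f, true), (.g, true), (.j, true), (.g, true), (.f, true), (.w, true), (.e, true), (.f, true), (.g, true), (.e, true), (.d, true), (.f, true), (.e, true), (.h, true), (.d, true), (.g, true), (.f, true), (.e, true), (.w, true), (.f, true), (.g, true), (.j, true), (.g, true), (.f, true), (.w, true), (.e, true), (.f, true), (.g, true), (.d, true), (.h, true), (.e, true), (.f, true), (.d, true), (.e, true), (.d, true), (.h, true), (.i, true), (.g, true), (.f, true), (.e, true), (.w, true), (.f, true), (.g, true), (.j, true), (.g, true), (.f, true), (.w, true), (.e, true), (.f, true), (.g, true), (.h, true), (.i, true), (.g, true), (.f, true), (.e, true), (.w, true), (.f, true), (.g, true), (.j, true), (.g, true), (.f, true), (.w, true), (.e, true), (.f, true), (.g, true), (.e, true), (.d, true), (.f, true),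 (.e, true), (.h, true), (.d, true), (.g, true), (.f, true), (.e, true), (.w, true), (.f, true), (.g, true), (.j, true), (.g, true), (.f, true), (.w, true), (.e, true), (.f, true), (.g, true), (.d, true), (.h, true), (.e, true), (.f, true), (.d, true), (.e, true), (.d, true), (.h, true), (.i, true), (.g, true), (.f, true), (.e, true), (.w, true), (.f, true), (.g, true), (.j, true), (.g, true), (.f, true), (.w, true), (.e, true), (.f, true), (.g, true), (.d, true), (.h, true), (.d, true), (.h, true), (.i, true), (.g, true), (.f, true), (.e, true), (.w, true), (.f, true), (.g, true), (.j, true), (.g, true), (.f, true), (.w, true), (.e, true), (.f, true), (.g, true), (.e, true), (.d, true), (.f, true), (.e, true), (.h, true), (.d, true), (.g, true), (.f, true), (.e, true), (.w, true), (.f, true), (.g, true), (.j, true), (.g, true), (.f, true), (.w, true), (.e, true), (.f, true), (.g, true), (.d, true), (.h, true), (.e, true), (.f, true), (.d, true), (.e, true), (.d, true), (.h, true), (.i, true), (.g, true), (.f, true), (.e, true), (.w, true), (.f, true), (.g, true), (.j, true), (.g, true), (.f, true), (.w, true), (.e, true),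 (.f, true), (.g, true), (.d, true)],
  W [(.d, true), (.g, true), (.f, true), (.e, true), (.w, true), (.f, true), (.g, true), (.j, true), (.g, true), (.f, true), (.w, true), (.e, true), (.f, true), (.g, true), (.i, true), (.h, true), (.d, true), (.e, true), (.d, true), (.f, true), (.e, true), (.h, true), (.d, true), (.g, true), (.f, true), (.e, true), (.w, true), (.f, true), (.g, true), (.j, true), (.g, true), (.f, true), (.w, true), (.e, true), (.f, true), (.g, true), (.d, true), (.h, true), (.e, true), (.f, true), (.d, true), (.e, true), (.g, true), (.f, true), (.e, true), (.w, true), (.f, true), (.g, true), (.j, true), (.g, true), (.f, true), (.w, true), (.e, true), (.f, true), (.g, true), (.i, true), (.h, true), (.d, true), (.h, true), (.d, true), (.g, true), (.f, true), (.e, true), (.w, true), (.f, true), (.g, true), (.j, true), (.g, true), (.f, true), (.w, true), (.e, true), (.f, true), (.g, true), (.i, true), (.h, true), (.d, true), (.e, true), (.d, true), (.f, true), (.e, true), (.h, true), (.d, true), (.g, true), (.f, true), (.e, true), (.w, true), (.f, true), (.g, true), (.j, true), (.g, true), (.f, true), (.w, true),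 (.e, true), (.f, true), (.g, true), (.d, true), (.h, true), (.e, true), (.f, true), (.d, true), (.e, true), (.g, true), (.f, true), (.e, true), (.w, true), (.f, true), (.g, true), (.j, true), (.g, true), (.f, true), (.w, true), (.e, true), (.f, true), (.g, true), (.i, true), (.h, true), (.d, true), (.h, true), (.d, true), (.h, true), (.i, true), (.g, true), (.f, true), (.e, true), (.w, true), (.f, true), (.g, true), (.j, true), (.g, true), (.f, true), (.w, true), (.e, true), (.f, true), (.g, true), (.e, true), (.d, true), (.f, true), (.e, true), (.h, true), (.d, true), (.g, true), (.f, true), (.e, true), (.w, true), (.f, true), (.g, true), (.j, true), (.g, true), (.f, true), (.w, true), (.e, true), (.f, true), (.g, true), (.d, true), (.h, true), (.e, true), (.f, true), (.d, true), (.e, true), (.d, true), (.h, true), (.i, true), (.g, true), (.f, true), (.e, true), (.w, true), (.f, true), (.g, true), (.j, true), (.g, true), (.f, true), (.w, true), (.e, true), (.f, true), (.g, true), (.d, true), (.h, true), (.d, true), (.g, true), (.f, true), (.e, true), (.w, true), (.f, true), (.g, true), (.j, true), (.g, true), (.f, true),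 (.w, true), (.e, true), (.f, true), (.g, true), (.i, true), (.h, true), (.d, true), (.e, true), (.d, true), (.f, true), (.e, true), (.h, true), (.d, true), (.g, true), (.f, true), (.e, true), (.w, true), (.f, true), (.g, true), (.j, true), (.g, true), (.f, true), (.w, true), (.e, true), (.f, true), (.g, true), (.d, true), (.h, true), (.e, true), (.f, true), (.d, true), (.e, true), (.g, true), (.f, true), (.e, true), (.w, true), (.f, true), (.g, true), (.j, true), (.g, true), (.f, true), (.w, true), (.e, true), (.f, true), (.g, true), (.i, true), (.h, true), (.d, true), (.h, true), (.d, true), (.h, true), (.i, true), (.g, true), (.f, true), (.e, true), (.w, true), (.f, true), (.g, true), (.j, true), (.g, true), (.f, true), (.w, true), (.e, true), (.f, true), (.g, true), (.e, true), (.d, true), (.f, true), (.e, true), (.h, true), (.d, true), (.g, true), (.f, true), (.e, true), (.w, true), (.f, true), (.g, true), (.j, true), (.g, true), (.f, true), (.w, true), (.e, true), (.f, true), (.g, true), (.d, true), (.h, true), (.e, true), (.f, true), (.d, true), (.e, true), (.d, true), (.h, true), (.i, true), (.g, true), (.f, true),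 (.e, true), (.w, true), (.f, true), (.g, true), (.j, true), (.g, true), (.f, true), (.w, true), (.e, true), (.f, true), (.g, true), (.d, true), (.h, true), (.d, true), (.h, true), (.i, true), (.g, true), (.f, true), (.e, true), (.w, true), (.f, true), (.g, true), (.j, true), (.g, true), (.f, true), (.w, true), (.e, true), (.f, true), (.g, true), (.e, true), (.d, true), (.f, true), (.e, true), (.h, true), (.d, true), (.g, true), (.f, true), (.e, true), (.w, true), (.f, true), (.g, true), (.j, true), (.g, true), (.f, true), (.w, true), (.e, true), (.f, true), (.g, true), (.d, true), (.h, true), (.e, true), (.f, true), (.d, true), (.e, true), (.d, true), (.h, true), (.i, true), (.g, true), (.f, true), (.e, true), (.w, true), (.f, true), (.g, true), (.j, true), (.g, true), (.f, true), (.w, true), (.e, true), (.f, true), (.g, true), (.d, true)],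
  W [(.d, true), (.g, true), (.f, true), (.e, true), (.w, true), (.f, true), (.g, true), (.j, true), (.g, true), (.f, true), (.w, true), (.e, true), (.f, true), (.g, true), (.i, true), (.h, true), (.d, true), (.e, true), (.d, true), (.f, true), (.e, true), (.h, true), (.d, true), (.g, true), (.f, true), (.e, true), (.w, true), (.f, true), (.g, true), (.j, true), (.g, true), (.f, true), (.w, true), (.e, true), (.f, true), (.g, true), (.d, true), (.h, true), (.e, true), (.f, true), (.d, true), (.e, true), (.g, true), (.f, true), (.e, true), (.w, true), (.f, true), (.g, true), (.j, true), (.g, true), (.f, true), (.w, true), (.e, true), (.f, true), (.g, true), (.i, true), (.h, true), (.d, true), (.h, true), (.d, true), (.g, true), (.f, true), (.e, true), (.w, true), (.f, true), (.g, true), (.j, true), (.g, true), (.f, true), (.w, true), (.e, true), (.f, true), (.g, true), (.i, true), (.h, true), (.d, true), (.e, true), (.d, true), (.f, true), (.e, true), (.h, true), (.d, true), (.g, true), (.f, true), (.e, true), (.w, true), (.f, true), (.g, true), (.j, true), (.g, true), (.f, true), (.w, true), (.e, true), (.f, true), (.g, true),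 (.d, true), (.h, true), (.e, true), (.f, true), (.d, true), (.e, true), (.g, true), (.f, true), (.e, true), (.w, true), (.f, true), (.g, true), (.j, true), (.g, true), (.f, true), (.w, true), (.e, true), (.f, true), (.g, true), (.i, true), (.h, true), (.g, true), (.f, true), (.e, true), (.w, true), (.f, true), (.g, true), (.j, true), (.g, true), (.f, true), (.w, true), (.e, true), (.f, true), (.g, true), (.i, true), (.h, true), (.d, true), (.e, true), (.d, true), (.f, true), (.e, true), (.h, true), (.d, true), (.g, true), (.f, true), (.e, true), (.w, true), (.f, true), (.g, true), (.j, true), (.g, true), (.f, true), (.w, true), (.e, true), (.f, true), (.g, true), (.d, true), (.h, true), (.e, true), (.f, true), (.d, true), (.e, true), (.g, true), (.f, true), (.e, true), (.w, true), (.f, true), (.g, true), (.j, true), (.g, true), (.f, true), (.w, true), (.e, true), (.f, true), (.g, true), (.i, true), (.h, true), (.d, true), (.h, true), (.d, true), (.h, true), (.i, true), (.g, true), (.f, true), (.e, true), (.w, true), (.f, true), (.g, true), (.j, true), (.g, true), (.f, true), (.w, true), (.e, true), (.f, true), (.g, true),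 (.e, true), (.d, true), (.f, true), (.e, true), (.h, true), (.d, true), (.g, true), (.f, true), (.e, true), (.w, true), (.f, true), (.g, true), (.j, true), (.g, true), (.f, true), (.w, true), (.e, true), (.f, true), (.g, true), (.d, true), (.h, true), (.e, true), (.f, true), (.d, true), (.e, true), (.d, true), (.h, true), (.i, true), (.g, true), (.f, true), (.e, true), (.w, true), (.f, true), (.g, true), (.j, true), (.g, true), (.f, true), (.w, true), (.e, true), (.f, true), (.g, true), (.d, true), (.h, true), (.d, true), (.g, true), (.f, true), (.e, true), (.w, true), (.f, true), (.g, true), (.j, true), (.g, true), (.f, true), (.w, true), (.e, true), (.f, true), (.g, true), (.i, true), (.h, true), (.d, true), (.e, true), (.d, true), (.f, true), (.e, true), (.h, true), (.d, true), (.g, true), (.f, true), (.e, true), (.w, true), (.f, true), (.g, true), (.j, true), (.g, true), (.f, true), (.w, true), (.e, true), (.f, true), (.g, true), (.d, true), (.h, true), (.e, true), (.f, true), (.d, true), (.e, true), (.g, true), (.f, true), (.e, true), (.w, true), (.f, true), (.g, true), (.j, true), (.g, true), (.f, true), (.w, true),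 (.e, true), (.f, true), (.g, true), (.i, true), (.h, true), (.d, true), (.h, true), (.d, true), (.h, true), (.i, true), (.g, true), (.f, true), (.e, true), (.w, true), (.f, true), (.g, true), (.j, true), (.g, true), (.f, true), (.w, true), (.e, true), (.f, true), (.g, true), (.e, true), (.d, true), (.f, true), (.e, true), (.h, true), (.d, true), (.g, true), (.f, true), (.e, true), (.w, true), (.f, true), (.g, true), (.j, true), (.g, true), (.f, true), (.w, true), (.e, true), (.f, true), (.g, true), (.d, true), (.h, true), (.e, true), (.f, true), (.d, true), (.e, true), (.d, true), (.h, true), (.i, true), (.g, true), (.f, true), (.e, true), (.w, true), (.f, true), (.g, true), (.j, true), (.g, true), (.f, true), (.w, true), (.e, true), (.f, true), (.g, true), (.h, true), (.i, true), (.g, true), (.f, true), (.e, true), (.w, true), (.f, true), (.g, true), (.j, true), (.g, true), (.f, true), (.w, true), (.e, true), (.f, true), (.g, true), (.e, true), (.d, true), (.f, true), (.e, true), (.h, true), (.d, true), (.g, true), (.f, true), (.e, true), (.w, true), (.f, true), (.g, true), (.j, true), (.g, true), (.f, true), (.w, true),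 (.e, true), (.f, true), (.g, true), (.d, true), (.h, true), (.e, true), (.f, true), (.d, true), (.e, true), (.d, true), (.h, true), (.i, true), (.g, true), (.f, true), (.e, true), (.w, true), (.f, true), (.g, true), (.j, true), (.g, true), (.f, true), (.w, true), (.e, true), (.f, true), (.g, true), (.d, true), (.h, true), (.d, true), (.h, true), (.i, true), (.g, true), (.f, true), (.e, true), (.w, true), (.f, true), (.g, true), (.j, true), (.g, true), (.f, true), (.w, true), (.e, true), (.f, true), (.g, true), (.e, true), (.d, true), (.f, true), (.e, true), (.h, true), (.d, true), (.g, true), (.f, true), (.e, true), (.w, true), (.f, true), (.g, true), (.j, true), (.g, true), (.f, true), (.w, true), (.e, true), (.f, true), (.g, true), (.d, true), (.h, true), (.e, true), (.f, true), (.d, true), (.e, true), (.d, true), (.h, true), (.i, true), (.g, true), (.f, true), (.e, true), (.w, true), (.f, true), (.g, true), (.j, true), (.g, true), (.f, true), (.w, true), (.e, true), (.f, true), (.g, true), (.d, true)]]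

/-- The mask of level 5. -/
def M5 : ℕ := nat_lit 0x900ee

theorem fix5 : ∀ r ∈ rs5, ∀ b ∈ ([41, 14, 267, 9, 0] : List ℕ), wordApply (sgnProg pr) r.toWord (2 ^ b) = 2 ^ b := by decide +kernel

theorem M5_eq : grow pr (rs5.map FreeGroup.toWord) 1 (2 ^ 1) = M5 := by decide +kernel

theorem M5_lt : M5 < 2 ^ 2 ^ 9 := by decide +kernel

theorem M5_cnt : sumRange M5.testBit 9 0 = 8 := by decide +kernel

theorem L5 : 8 * Nat.card (ptStab Phi ([1, 41, 14, 267, 9, 0] : List ℕ)) ≤ Nat.card (ptStab Phi ([41, 14, 267, 9, 0] : List ℕ)) :=
  card_step (M5_eq ▸ sound_ptStab hR hv rs5 fix5 1 1) M5_lt M5_cnt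

/-- The words of level 6. -/
noncomputable def rs6 : List (FreeGroup Cfsg.Agent.TcChain36.LPres23.Gen) := [
  W [(.h, true)],
  W [(.d, true), (.g, true), (.f, true), (.e, true), (.w, true), (.f, true), (.g, true), (.j, true), (.g, true), (.f, true), (.w, true), (.e, true), (.f, true), (.g, true), (.i, true), (.h, true), (.d, true), (.e, true), (.d, true), (.f, true), (.e, true), (.h, true), (.d, true), (.g, true), (.f, true), (.e, true), (.w, true), (.f, true), (.g, true), (.j, true), (.g, true), (.f, true), (.w, true), (.e, true), (.f, true), (.g, true), (.d, true), (.h, true), (.e, true), (.f, true), (.d, true), (.e, true), (.g, true), (.f, true), (.e, true), (.w, true), (.f, true), (.g, true), (.j, true), (.g, true), (.f, true), (.w, true), (.e, true), (.f, true), (.g, true), (.i, true), (.h, true), (.d, true), (.h, true), (.d, true), (.g, true), (.f, true), (.e, true), (.w, true), (.f, true), (.g, true), (.j, true), (.g, true), (.f, true), (.w, true), (.e, true), (.f, true), (.g, true), (.i, true), (.h, true), (.d, true), (.e, true), (.d, true), (.f, true), (.e, true), (.h, true), (.d, true), (.g, true), (.f, true),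 (.e, true), (.w, true), (.f, true), (.g, true), (.j, true), (.g, true), (.f, true), (.w, true), (.e, true), (.f, true), (.g, true), (.d, true), (.h, true), (.e, true), (.f, true), (.d, true), (.e, true), (.g, true), (.f, true), (.e, true), (.w, true), (.f, true), (.g, true), (.j, true), (.g, true), (.f, true), (.w, true), (.e, true), (.f, true), (.g, true), (.i, true), (.h, true), (.g, true), (.f, true), (.e, true), (.w, true), (.f, true), (.g, true), (.j, true), (.g, true), (.f, true), (.w, true), (.e, true), (.f, true), (.g, true), (.i, true), (.h, true), (.d, true), (.e, true), (.d, true), (.f, true), (.e, true), (.h, true), (.d, true), (.g, true), (.f, true), (.e, true), (.w, true), (.f, true), (.g, true), (.j, true), (.g, true), (.f, true), (.w, true), (.e, true), (.f, true), (.g, true), (.d, true), (.h, true), (.e, true), (.f, true), (.d, true), (.e, true), (.g, true), (.f, true), (.e, true), (.w, true), (.f, true), (.g, true), (.j, true), (.g, true), (.f, true), (.w, true), (.e, true), (.f, true), (.g, true), (.i, true), (.h, true), (.d, true), (.h, true), (.d, true), (.h, true), (.i, true), (.g, true), (.f, true),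 (.e, true), (.w, true), (.f, true), (.g, true), (.j, true), (.g, true), (.f, true), (.w, true), (.e, true), (.f, true), (.g, true), (.e, true), (.d, true), (.f, true), (.e, true), (.h, true), (.d, true), (.g, true), (.f, true), (.e, true), (.w, true), (.f, true), (.g, true), (.j, true), (.g, true), (.f, true), (.w, true), (.e, true), (.f, true), (.g, true), (.d, true), (.h, true), (.e, true), (.f, true), (.d, true), (.e, true), (.d, true), (.h, true), (.i, true), (.g, true), (.f, true), (.e, true), (.w, true), (.f, true), (.g, true), (.j, true), (.g, true), (.f, true), (.w, true), (.e, true), (.f, true), (.g, true), (.d, true), (.h, true), (.d, true), (.g, true), (.f, true), (.e, true), (.w, true), (.f, true), (.g, true), (.j, true), (.g, true), (.f, true), (.w, true), (.e, true), (.f, true), (.g, true), (.i, true), (.h, true), (.d, true), (.e, true), (.d, true), (.f, true), (.e, true), (.h, true), (.d, true), (.g, true), (.f, true), (.e, true), (.w, true), (.f, true), (.g, true), (.j, true), (.g, true), (.f, true), (.w, true), (.e, true), (.f, true), (.g, true), (.d, true), (.h, true), (.e, true), (.f, true), (.d, true),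 (.e, true), (.g, true), (.f, true), (.e, true), (.w, true), (.f, true), (.g, true), (.j, true), (.g, true), (.f, true), (.w, true), (.e, true), (.f, true), (.g, true), (.i, true), (.h, true), (.d, true), (.h, true), (.d, true), (.h, true), (.i, true), (.g, true), (.f, true), (.e, true), (.w, true), (.f, true), (.g, true), (.j, true), (.g, true), (.f, true), (.w, true), (.e, true), (.f, true), (.g, true), (.e, true), (.d, true), (.f, true), (.e, true), (.h, true), (.d, true), (.g, true), (.f, true), (.e, true), (.w, true), (.f, true), (.g, true), (.j, true), (.g, true), (.f, true), (.w, true), (.e, true), (.f, true), (.g, true), (.d, true), (.h, true), (.e, true), (.f, true), (.d, true), (.e, true), (.d, true), (.h, true), (.i, true), (.g, true), (.f, true), (.e, true), (.w, true), (.f, true), (.g, true), (.j, true), (.g, true), (.f, true), (.w, true), (.e, true), (.f, true), (.g, true), (.h, true), (.i, true), (.g, true), (.f, true), (.e, true), (.w, true), (.f, true), (.g, true), (.j, true), (.g, true), (.f, true), (.w, true), (.e, true), (.f, true), (.g, true), (.e, true), (.d, true), (.f, true), (.e, true), (.h, true),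 (.d, true), (.g, true), (.f, true), (.e, true), (.w, true), (.f, true), (.g, true), (.j, true), (.g, true), (.f, true), (.w, true), (.e, true), (.f, true), (.g, true), (.d, true), (.h, true), (.e, true), (.f, true), (.d, true), (.e, true), (.d, true), (.h, true), (.i, true), (.g, true), (.f, true), (.e, true), (.w, true), (.f, true), (.g, true), (.j, true), (.g, true), (.f, true), (.w, true), (.e, true), (.f, true), (.g, true), (.d, true), (.h, true), (.d, true), (.h, true), (.i, true), (.g, true), (.f, true), (.e, true), (.w, true), (.f, true), (.g, true), (.j, true), (.g, true), (.f, true), (.w, true), (.e, true), (.f, true), (.g, true), (.e, true), (.d, true), (.f, true), (.e, true), (.h, true), (.d, true), (.g, true), (.f, true), (.e, true), (.w, true), (.f, true), (.g, true), (.j, true), (.g, true), (.f, true), (.w, true), (.e, true), (.f, true), (.g, true), (.d, true), (.h, true), (.e, true), (.f, true), (.d, true), (.e, true), (.d, true), (.h, true), (.i, true), (.g, true), (.f, true), (.e, true), (.w, true), (.f, true), (.g, true), (.j, true), (.g, true), (.f, true), (.w, true), (.e, true), (.f, true), (.g, true),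 (.d, true)],
  W [(.d, true), (.g, true), (.f, true), (.e, true), (.w, true), (.f, true), (.g, true), (.j, true), (.g, true), (.f, true), (.w, true), (.e, true), (.f, true), (.g, true), (.i, true), (.h, true), (.d, true), (.e, true), (.d, true), (.f, true), (.e, true), (.h, true), (.d, true), (.g, true), (.f, true), (.e, true), (.w, true), (.f, true), (.g, true), (.j, true), (.g, true), (.f, true), (.w, true), (.e, true), (.f, true), (.g, true), (.d, true), (.h, true), (.e, true), (.f, true), (.d, true), (.e, true), (.g, true), (.f, true), (.e, true), (.w, true), (.f, true), (.g, true), (.j, true), (.g, true), (.f, true), (.w, true), (.e, true), (.f, true), (.g, true), (.i, true), (.h, true), (.g, true), (.f, true), (.e, true), (.w, true), (.f, true), (.g, true), (.j, true), (.g, true), (.f, true), (.w, true), (.e, true), (.f, true), (.g, true), (.i, true), (.h, true), (.d, true), (.e, true), (.d, true), (.f, true), (.e, true), (.h, true), (.d, true), (.g, true), (.f, true), (.e, true), (.w, true), (.f, true), (.g, true), (.j, true), (.g, true), (.f, true), (.w, true), (.e, true), (.f, true), (.g, true), (.d, true), (.h, true),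 (.e, true), (.f, true), (.d, true), (.e, true), (.g, true), (.f, true), (.e, true), (.w, true), (.f, true), (.g, true), (.j, true), (.g, true), (.f, true), (.w, true), (.e, true), (.f, true), (.g, true), (.i, true), (.h, true), (.g, true), (.f, true), (.e, true), (.w, true), (.f, true), (.g, true), (.j, true), (.g, true), (.f, true), (.w, true), (.e, true), (.f, true), (.g, true), (.i, true), (.h, true), (.d, true), (.e, true), (.d, true), (.f, true), (.e, true), (.h, true), (.d, true), (.g, true), (.f, true), (.e, true), (.w, true), (.f, true), (.g, true), (.j, true), (.g, true), (.f, true), (.w, true), (.e, true), (.f, true), (.g, true), (.d, true), (.h, true), (.e, true), (.f, true), (.d, true), (.e, true), (.g, true), (.f, true), (.e, true), (.w, true), (.f, true), (.g, true), (.j, true), (.g, true), (.f, true), (.w, true), (.e, true), (.f, true), (.g, true), (.i, true), (.h, true), (.g, true), (.f, true), (.e, true), (.w, true), (.f, true), (.g, true), (.j, true), (.g, true), (.f, true), (.w, true), (.e, true), (.f, true), (.g, true), (.i, true), (.h, true), (.d, true), (.e, true), (.d, true), (.f, true), (.e, true),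 (.h, true), (.d, true), (.g, true), (.f, true), (.e, true), (.w, true), (.f, true), (.g, true), (.j, true), (.g, true), (.f, true), (.w, true), (.e, true), (.f, true), (.g, true), (.d, true), (.h, true), (.e, true), (.f, true), (.d, true), (.e, true), (.g, true), (.f, true), (.e, true), (.w, true), (.f, true), (.g, true), (.j, true), (.g, true), (.f, true), (.w, true), (.e, true), (.f, true), (.g, true), (.i, true), (.h, true), (.d, true), (.h, true), (.d, true), (.h, true), (.i, true), (.g, true), (.f, true), (.e, true), (.w, true), (.f, true), (.g, true), (.j, true), (.g, true), (.f, true), (.w, true), (.e, true), (.f, true), (.g, true), (.e, true), (.d, true), (.f, true), (.e, true), (.h, true), (.d, true), (.g, true), (.f, true), (.e, true), (.w, true), (.f, true), (.g, true), (.j, true), (.g, true), (.f, true), (.w, true), (.e, true), (.f, true), (.g, true), (.d, true), (.h, true), (.e, true), (.f, true), (.d, true), (.e, true), (.d, true), (.h, true), (.i, true), (.g, true), (.f, true), (.e, true), (.w, true), (.f, true), (.g, true), (.j, true), (.g, true), (.f, true), (.w, true), (.e, true), (.f, true), (.g, true),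 (.h, true), (.i, true), (.g, true), (.f, true), (.e, true), (.w, true), (.f, true), (.g, true), (.j, true), (.g, true), (.f, true), (.w, true), (.e, true), (.f, true), (.g, true), (.e, true), (.d, true), (.f, true), (.e, true), (.h, true), (.d, true), (.g, true), (.f, true), (.e, true), (.w, true), (.f, true), (.g, true), (.j, true), (.g, true), (.f, true), (.w, true), (.e, true), (.f, true), (.g, true), (.d, true), (.h, true), (.e, true), (.f, true), (.d, true), (.e, true), (.d, true), (.h, true), (.i, true), (.g, true), (.f, true), (.e, true), (.w, true), (.f, true), (.g, true), (.j, true), (.g, true), (.f, true), (.w, true), (.e, true), (.f, true), (.g, true), (.h, true), (.i, true), (.g, true), (.f, true), (.e, true), (.w, true), (.f, true), (.g, true), (.j, true), (.g, true), (.f, true), (.w, true), (.e, true), (.f, true), (.g, true), (.e, true), (.d, true), (.f, true), (.e, true), (.h, true), (.d, true), (.g, true), (.f, true), (.e, true), (.w, true), (.f, true), (.g, true), (.j, true), (.g, true), (.f, true), (.w, true), (.e, true), (.f, true), (.g, true), (.d, true), (.h, true), (.e, true), (.f, true), (.d, true),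 (.e, true), (.d, true), (.h, true), (.i, true), (.g, true), (.f, true), (.e, true), (.w, true), (.f, true), (.g, true), (.j, true), (.g, true), (.f, true), (.w, true), (.e, true), (.f, true), (.g, true), (.d, true), (.h, true), (.d, true), (.h, true), (.i, true), (.g, true), (.f, true), (.e, true), (.w, true), (.f, true), (.g, true), (.j, true), (.g, true), (.f, true), (.w, true), (.e, true), (.f, true), (.g, true), (.e, true), (.d, true), (.f, true), (.e, true), (.h, true), (.d, true), (.g, true), (.f, true), (.e, true), (.w, true), (.f, true), (.g, true), (.j, true), (.g, true), (.f, true), (.w, true), (.e, true), (.f, true), (.g, true), (.d, true), (.h, true), (.e, true), (.f, true), (.d, true), (.e, true), (.d, true), (.h, true), (.i, true), (.g, true), (.f, true), (.e, true), (.w, true), (.f, true), (.g, true), (.j, true), (.g, true), (.f, true), (.w, true), (.e, true), (.f, true), (.g, true), (.h, true), (.i, true), (.g, true), (.f, true), (.e, true), (.w, true), (.f, true), (.g, true), (.j, true), (.g, true), (.f, true), (.w, true), (.e, true), (.f, true), (.g, true), (.e, true), (.d, true), (.f, true), (.e, true),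 (.h, true), (.d, true), (.g, true), (.f, true), (.e, true), (.w, true), (.f, true), (.g, true), (.j, true), (.g, true), (.f, true), (.w, true), (.e, true), (.f, true), (.g, true), (.d, true), (.h, true), (.e, true), (.f, true), (.d, true), (.e, true), (.d, true), (.h, true), (.i, true), (.g, true), (.f, true), (.e, true), (.w, true), (.f, true), (.g, true), (.j, true), (.g, true), (.f, true), (.w, true), (.e, true), (.f, true), (.g, true), (.h, true), (.i, true), (.g, true), (.f, true), (.e, true), (.w, true), (.f, true), (.g, true), (.j, true), (.g, true), (.f, true), (.w, true), (.e, true), (.f, true), (.g, true), (.e, true), (.d, true), (.f, true), (.e, true), (.h, true), (.d, true), (.g, true), (.f, true), (.e, true), (.w, true), (.f, true), (.g, true), (.j, true), (.g, true), (.f, true), (.w, true), (.e, true), (.f, true), (.g, true), (.d, true), (.h, true), (.e, true), (.f, true), (.d, true), (.e, true), (.d, true), (.h, true), (.i, true), (.g, true), (.f, true), (.e, true), (.w, true), (.f, true), (.g, true), (.j, true), (.g, true), (.f, true), (.w, true), (.e, true), (.f, true), (.g, true), (.d, true), (.h, true),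 (.d, true), (.h, true), (.i, true), (.g, true), (.f, true), (.e, true), (.w, true), (.f, true), (.g, true), (.j, true), (.g, true), (.f, true), (.w, true), (.e, true), (.f, true), (.g, true), (.e, true), (.d, true), (.f, true), (.e, true), (.h, true), (.d, true), (.g, true), (.f, true), (.e, true), (.w, true), (.f, true), (.g, true), (.j, true), (.g, true), (.f, true), (.w, true), (.e, true), (.f, true), (.g, true), (.d, true), (.h, true), (.e, true), (.f, true), (.d, true), (.e, true), (.d, true), (.h, true), (.i, true), (.g, true), (.f, true), (.e, true), (.w, true), (.f, true), (.g, true), (.j, true), (.g, true), (.f, true), (.w, true), (.e, true), (.f, true), (.g, true), (.d, true)]]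

/-- The mask of level 6. -/
def M6 : ℕ := nat_lit 0x400000000000000000000000000000000000000000000000000000000000000000000001000000000000

theorem fix6 : ∀ r ∈ rs6, ∀ b ∈ ([1, 41, 14, 267, 9, 0] : List ℕ), wordApply (sgnProg pr) r.toWord (2 ^ b) = 2 ^ b := by decide +kernel

theorem M6_eq : grow pr (rs6.map FreeGroup.toWord) 1 (2 ^ 48) = M6 := by decide +kernel

theorem M6_lt : M6 < 2 ^ 2 ^ 9 := by decide +kernel

theorem M6_cnt : sumRange M6.testBit 9 0 = 2 := by decide +kernel

theorem L6 : 2 * Nat.card (ptStab Phi ([48, 1, 41, 14, 267, 9, 0] : List ℕ)) ≤ Nat.card (ptStab Phi ([1, 41, 14, 267, 9, 0] : List ℕ)) :=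
  card_step (M6_eq ▸ sound_ptStab hR hv rs6 fix6 1 48) M6_lt M6_cnt

/-- The words of level 7. -/
noncomputable def rs7 : List (FreeGroup Cfsg.Agent.TcChain36.LPres23.Gen) := [
  W [(.h, true)],
  W [(.d, true), (.g, true), (.f, true), (.e, true), (.w, true), (.f, true), (.g, true), (.j, true), (.g, true), (.f, true), (.w, true), (.e, true), (.f, true), (.g, true), (.i, true), (.h, true), (.d, true), (.e, true), (.d, true), (.f, true), (.e, true), (.h, true), (.d, true), (.g, true), (.f, true), (.e, true), (.w, true), (.f, true), (.g, true), (.j, true), (.g, true), (.f, true), (.w, true), (.e, true), (.f, true), (.g, true), (.d, true), (.h, true), (.e, true), (.f, true), (.d, true), (.e, true), (.g, true), (.f, true), (.e, true), (.w, true), (.f, true), (.g, true), (.j, true), (.g, true), (.f, true), (.w, true), (.e, true), (.f, true), (.g, true), (.i, true), (.h, true), (.d, true), (.h, true), (.d, true), (.g, true), (.f, true), (.e, true), (.w, true), (.f, true), (.g, true), (.j, true), (.g, true), (.f, true), (.w, true), (.e, true), (.f, true), (.g, true), (.i, true), (.h, true), (.d, true), (.e, true), (.d, true), (.f,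 true), (.e, true), (.h, true), (.d, true), (.g, true), (.f, true), (.e, true), (.w, true), (.f, true), (.g, true), (.j, true), (.g, true), (.f, true), (.w, true), (.e, true), (.f, true), (.g, true), (.d, true), (.h, true), (.e, true), (.f, true), (.d, true), (.e, true), (.g, true), (.f, true), (.e, true), (.w, true), (.f, true), (.g, true), (.j, true), (.g, true), (.f, true), (.w, true), (.e, true), (.f, true), (.g, true), (.i, true), (.h, true), (.g, true), (.f, true), (.e, true), (.w, true), (.f, true), (.g, true), (.j, true), (.g, true), (.f, true), (.w, true), (.e, true), (.f, true), (.g, true), (.i, true), (.h, true), (.d, true), (.e, true), (.d, true), (.f, true), (.e, true), (.h, true), (.d, true), (.g, true), (.f, true), (.e, true), (.w, true), (.f, true), (.g, true), (.j, true), (.g, true), (.f, true), (.w, true), (.e, true), (.f, true), (.g, true), (.d, true), (.h, true), (.e, true), (.f, true), (.d, true), (.e, true), (.g, true), (.f, true), (.e, true), (.w, true), (.f, true), (.g, true), (.j, true), (.g, true), (.f, true), (.w, true), (.e, true), (.f, true), (.g, true), (.i, true), (.h, true), (.d, true), (.h,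 true), (.d, true), (.h, true), (.i, true), (.g, true), (.f, true), (.e, true), (.w, true), (.f, true), (.g, true), (.j, true), (.g, true), (.f, true), (.w, true), (.e, true), (.f, true), (.g, true), (.e, true), (.d, true), (.f, true), (.e, true), (.h, true), (.d, true), (.g, true), (.f, true), (.e, true), (.w, true), (.f, true), (.g, true), (.j, true), (.g, true), (.f, true), (.w, true), (.e, true), (.f, true), (.g, true), (.d, true), (.h, true), (.e, true), (.f, true), (.d, true), (.e, true), (.d, true), (.h, true), (.i, true), (.g, true), (.f, true), (.e, true), (.w, true), (.f, true), (.g, true), (.j, true), (.g, true), (.f, true), (.w, true), (.e, true), (.f, true), (.g, true), (.d, true), (.h, true), (.d, true), (.g, true), (.f, true), (.e, true), (.w, true), (.f, true), (.g, true), (.j, true), (.g, true), (.f, true), (.w, true), (.e, true), (.f, true), (.g, true), (.i, true), (.h, true), (.d, true), (.e, true), (.d, true), (.f, true), (.e, true), (.h, true), (.d, true), (.g, true), (.f, true), (.e, true), (.w, true), (.f, true), (.g, true), (.j, true), (.g, true), (.f, true), (.w, true), (.e, true), (.f, true), (.g,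 true), (.d, true), (.h, true), (.e, true), (.f, true), (.d, true), (.e, true), (.g, true), (.f, true), (.e, true), (.w, true), (.f, true), (.g, true), (.j, true), (.g, true), (.f, true), (.w, true), (.e, true), (.f, true), (.g, true), (.i, true), (.h, true), (.d, true), (.h, true), (.d, true), (.h, true), (.i, true), (.g, true), (.f, true), (.e, true), (.w, true), (.f, true), (.g, true), (.j, true), (.g, true), (.f, true), (.w, true), (.e, true), (.f, true), (.g, true), (.e, true), (.d, true), (.f, true), (.e, true), (.h, true), (.d, true), (.g, true), (.f, true), (.e, true), (.w, true), (.f, true), (.g, true), (.j, true), (.g, true), (.f, true), (.w, true), (.e, true), (.f, true), (.g, true), (.d, true), (.h, true), (.e, true), (.f, true), (.d, true), (.e, true), (.d, true), (.h, true), (.i, true), (.g, true), (.f, true), (.e, true), (.w, true), (.f, true), (.g, true), (.j, true), (.g, true), (.f, true), (.w, true), (.e, true), (.f, true), (.g, true), (.h, true), (.i, true), (.g, true), (.f, true), (.e, true), (.w, true), (.f, true), (.g, true), (.j, true), (.g, true), (.f, true), (.w, true), (.e, true), (.f, true), (.g,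 true), (.e, true), (.d, true), (.f, true), (.e, true), (.h, true), (.d, true), (.g, true), (.f, true), (.e, true), (.w, true), (.f, true), (.g, true), (.j, true), (.g, true), (.f, true), (.w, true), (.e, true), (.f, true), (.g, true), (.d, true), (.h, true), (.e, true), (.f, true), (.d, true), (.e, true), (.d, true), (.h, true), (.i, true), (.g, true), (.f, true), (.e, true), (.w, true), (.f, true), (.g, true), (.j, true), (.g, true), (.f, true), (.w, true), (.e, true), (.f, true), (.g, true), (.d, true), (.h, true), (.d, true), (.h, true), (.i, true), (.g, true), (.f, true), (.e, true), (.w, true), (.f, true), (.g, true), (.j, true), (.g, true), (.f, true), (.w, true), (.e, true), (.f, true), (.g, true), (.e, true), (.d, true), (.f, true), (.e, true), (.h, true), (.d, true), (.g, true), (.f, true), (.e, true), (.w, true), (.f, true), (.g, true), (.j, true), (.g, true), (.f, true), (.w, true), (.e, true), (.f, true), (.g, true), (.d, true), (.h, true), (.e, true), (.f, true), (.d, true), (.e, true), (.d, true), (.h, true), (.i, true), (.g, true), (.f, true), (.e, true), (.w, true), (.f, true), (.g, true), (.j, true), (.g,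 true), (.f, true), (.w, true), (.e, true), (.f, true), (.g, true), (.d, true)]]

/-- The mask of level 7. -/
def M7 : ℕ := nat_lit 0x200000000000000000000000000000000000000000000000000000000000000000000000000000000010

theorem fix7 : ∀ r ∈ rs7, ∀ b ∈ ([48, 1, 41, 14, 267, 9, 0] : List ℕ), wordApply (sgnProg pr) r.toWord (2 ^ b) = 2 ^ b := by decide +kernel

theorem M7_eq : grow pr (rs7.map FreeGroup.toWord) 1 (2 ^ 4) = M7 := by decide +kernel

theorem M7_lt : M7 < 2 ^ 2 ^ 9 := by decide +kernel

theorem M7_cnt : sumRange M7.testBit 9 0 = 2 := by decide +kernel

theorem L7 : 2 * Nat.card (ptStab Phi ([4, 48, 1, 41, 14, 267, 9, 0] : List ℕ)) ≤ Nat.card (ptStab Phi ([48, 1, 41, 14, 267, 9, 0] : List ℕ)) :=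
  card_step (M7_eq ▸ sound_ptStab hR hv rs7 fix7 1 4) M7_lt M7_cnt

/-- The words of level 8. -/
noncomputable def rs8 : List (FreeGroup Cfsg.Agent.TcChain36.LPres23.Gen) := [
  W [(.h, true)]]

/-- The mask of level 8. -/
def M8 : ℕ := nat_lit 0x2000800

theorem fix8 : ∀ r ∈ rs8, ∀ b ∈ ([4, 48, 1, 41, 14, 267, 9, 0] : List ℕ), wordApply (sgnProg pr) r.toWord (2 ^ b) = 2 ^ b := by decide +kernel

theorem M8_eq : grow pr (rs8.map FreeGroup.toWord) 1 (2 ^ 11) = M8 := by decide +kernel

theorem M8_lt : M8 < 2 ^ 2 ^ 9 := by decide +kernel

theorem M8_cnt : sumRange M8.testBit 9 0 = 2 := by decide +kernel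

theorem L8 : 2 * Nat.card (ptStab Phi ([11, 4, 48, 1, 41, 14, 267, 9, 0] : List ℕ)) ≤ Nat.card (ptStab Phi ([4, 48, 1, 41, 14, 267, 9, 0] : List ℕ)) :=
  card_step (M8_eq ▸ sound_ptStab hR hv rs8 fix8 1 11) M8_lt M8_cnt

theorem C9 : 1 * Nat.card (ptStab Phi ([11, 4, 48, 1, 41, 14, 267, 9, 0] : List ℕ)) ≤ Nat.card (ptStab Phi ([11, 4, 48, 1, 41, 14, 267, 9, 0] : List ℕ)) := by simp

theorem C8 : (2 * 1) * Nat.card (ptStab Phi ([11, 4, 48, 1, 41, 14, 267, 9, 0] : List ℕ)) ≤ Nat.card (ptStab Phi ([4, 48, 1, 41, 14, 267, 9, 0] : List ℕ)) :=
  lower_step L8 C9

theorem C7 : (2 * (2 * 1)) * Nat.card (ptStab Phi ([11, 4, 48, 1, 41, 14, 267, 9, 0] : List ℕ)) ≤ Nat.card (ptStab Phi ([48, 1, 41, 14, 267, 9, 0] : List ℕ)) :=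
  lower_step L7 C8

theorem C6 : (2 * (2 * (2 * 1))) * Nat.card (ptStab Phi ([11, 4, 48, 1, 41, 14, 267, 9, 0] : List ℕ)) ≤ Nat.card (ptStab Phi ([1, 41, 14, 267, 9, 0] : List ℕ)) :=
  lower_step L6 C7

theorem C5 : (8 * (2 * (2 * (2 * 1)))) * Nat.card (ptStab Phi ([11, 4, 48, 1, 41, 14, 267, 9, 0] : List ℕ)) ≤ Nat.card (ptStab Phi ([41, 14, 267, 9, 0] : List ℕ)) :=
  lower_step L5 C6

theorem C4 : (3 * (8 * (2 * (2 * (2 * 1))))) * Nat.card (ptStab Phi ([11, 4, 48, 1, 41, 14, 267, 9, 0] : List ℕ)) ≤ Nat.card (ptStab Phi ([14, 267, 9, 0] : List ℕ)) :=
  lower_step L4 C5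

theorem C3 : (12 * (3 * (8 * (2 * (2 * (2 * 1)))))) * Nat.card (ptStab Phi ([11, 4, 48, 1, 41, 14, 267, 9, 0] : List ℕ)) ≤ Nat.card (ptStab Phi ([267, 9, 0] : List ℕ)) :=
  lower_step L3 C4

theorem C2 : (45 * (12 * (3 * (8 * (2 * (2 * (2 * 1))))))) * Nat.card (ptStab Phi ([11, 4, 48, 1, 41, 14, 267, 9, 0] : List ℕ)) ≤ Nat.card (ptStab Phi ([9, 0] : List ℕ)) :=
  lower_step L2 C3

theorem C1 : (126 * (45 * (12 * (3 * (8 * (2 * (2 * (2 * 1)))))))) * Nat.card (ptStab Phi ([11, 4, 48, 1, 41, 14, 267, 9, 0] : List ℕ)) ≤ Nat.card (ptStab Phi ([0] : List ℕ)) :=
  lower_step L1 C2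

theorem C0 : (351 * (126 * (45 * (12 * (3 * (8 * (2 * (2 * (2 * 1))))))))) * Nat.card (ptStab Phi ([11, 4, 48, 1, 41, 14, 267, 9, 0] : List ℕ)) ≤ Nat.card (ptStab Phi ([] : List ℕ)) :=
  lower_step L0 C1

theorem top_eq : ptStab Phi ([] : List ℕ) = ⊤ := ptStab_nil Phi

theorem card_spec : Nat.card (PresentedGroup RR) = 4585351680 ∧ ∀ g ∈ ptStab Phi ([11, 4, 48, 1, 41, 14, 267, 9, 0] : List ℕ), g = 1 := by
  have h := C0
  rw [top_eq] at h
  exact eq_of_lower (by norm_num) (h.trans' (Nat.mul_le_mul_right _ (by norm_num))) upper.1

end Cfsg.Agent.TcChain36.LM23
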